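import Groth.Agent.BirFormsLib.Sections
import Groth.Agent.KVbLib.OmegaExt
import Groth.Agent.KVbLib.Rank
import Groth.Agent.LazMukLib.EndBound
import Groth.Agent.ASBunKS.RankOne
import Groth.Agent.AmpleLib.Pullback
import Groth.Agent.SeesawVB.TrivFibres
import Groth.Agent.TwistShriek.SurfSmooth
import Groth.Agent.CurveFF.SmoothReg
import Groth.Agent.S15540
import Groth.Agent.S4440
import Groth.Agent.LeffEtLib.Conn

/-!
# Birational invariance of global differential forms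
-/

set_option autoImplicit false
set_option backward.isDefEq.respectTransparency false
set_option linter.style.haveILetI false
set_option maxHeartbeats 1000000

universe u

open CategoryTheory CategoryTheory.Limits AlgebraicGeometry TopologicalSpace
open Groth.Agent.PullbackMod Groth.Agent.NormalRefLib Groth.Agent.RefOne

noncomputable section

namespace Groth.Agent.BirFormsLib

variable {k : Type u} [Field k] [IsAlgClosed k]

/-- The rational map is a morphism in codimension one, with pullback maps of forms. -/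
theorem exists_data
    {X X' : Scheme.{u}} [X.Over (Spec (CommRingCat.of k))] [X'.Over (Spec (CommRingCat.of k))]
    [IsIntegral X] [IsIntegral X']
    [IsProper (X ↘ (Spec (CommRingCat.of k)))] [IsProper (X' ↘ (Spec (CommRingCat.of k)))]
    (hreg : ∀ x : ↥X, IsRegularLocalRing ↑(X.presheaf.stalk x))
    (U : X.Opens) (U' : X'.Opens) (hU : (U : Set ↥X).Nonempty) (e : (U : Scheme.{u}) ≅ (U' : Scheme.{u}))
    (he : e.hom ≫ U'.ι ≫ (X' ↘ (Spec (CommRingCat.of k))) = U.ι ≫ (X ↘ (Spec (CommRingCat.of k))))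
    (q : ℕ) (L : X.Modules) (hL : ExtPow.IsExtPow q (Omega.sheaf (X ↘ (Spec (CommRingCat.of k)))) L)
    (L' : X'.Modules) (hL' : ExtPow.IsExtPow q (Omega.sheaf (X' ↘ (Spec (CommRingCat.of k)))) L') :
    ∃ (U₁ : X.Opens) (g : U₁.toScheme ⟶ X')
      (a : (Scheme.Modules.pullback g).obj L' ⟶ (Scheme.Modules.pullback U₁.ι).obj L) (x₀ : U₁.toScheme),
      (∀ x : X, x ∉ U₁ → (2 : WithBot ℕ∞) ≤ ringKrullDim (X.presheaf.stalk x)) ∧
      g ≫ (X' ↘ Spec (CommRingCat.of k)) = U₁.ι ≫ (X ↘ Spec (CommRingCat.of k)) ∧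
      Function.Bijective (g.stalkMap x₀) ∧ Function.Bijective (stalkLin a x₀) := by
  let sX := X ↘ Spec (CommRingCat.of k)
  let sX' := X' ↘ Spec (CommRingCat.of k)
  haveI : IsLocallyNoetherian X := LocallyOfFiniteType.isLocallyNoetherian sX
  obtain ⟨U₁, hUU₁, g, hg, hgU, hmem⟩ := S4440.result sX' sX (fun x _ => hreg x) U (U.2.dense hU) (e.hom ≫ U'.ι) (by
    rw [Category.assoc]; exact he)
  have hbig : ∀ x : X, x ∉ U₁ → (2 : WithBot ℕ∞) ≤ ringKrullDim (X.presheaf.stalk x) := fun x hx =>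
    LeffEtLib.two_le_of_one_lt (not_le.1 fun h => hx (hmem x h))
  obtain ⟨c, hc, -⟩ := S9370.result sX' (U₁.ι ≫ sX) g (𝟙 _) (by rw [Category.comp_id, hg]) _ _
    (OmegaUnivLib.isUniversal_dOmega sX') _ _ (OmegaUnivLib.isUniversal_dOmega (U₁.ι ≫ sX))
  have hext : ExtPow.IsExtPow q (Omega.sheaf (U₁.ι ≫ sX)) ((Scheme.Modules.pullback U₁.ι).obj L) :=
    S15540.result _ _ _ _ sX (U₁.ι ≫ sX) U₁.ι (𝟙 _) (Category.comp_id _).symm q L hL
  haveI := OmegaAffLib.isQCoh_omega sX'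
  have hext' : ExtPow.IsExtPow q ((Scheme.Modules.pullback g).obj (Omega.sheaf sX'))
      ((Scheme.Modules.pullback g).obj L') := KVb.isExtPow_pullback g hL'
  obtain ⟨d⟩ := ExtSeq.nonempty_EP hext'
  obtain ⟨d₁⟩ := ExtSeq.nonempty_EP hext
  obtain ⟨a, ha⟩ := exists_extMap d d₁ c
  obtain ⟨u₀, hu₀⟩ := hU
  let x₀ : U₁.toScheme := ⟨u₀, hUU₁ hu₀⟩
  -- small open sets are open subschemes of the target
  have hopen : ∀ O : U₁.toScheme.Opens, O ≤ U₁.ι ⁻¹ᵁ U → IsOpenImmersion (O.ι ≫ g) := by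
    intro O hO
    let l : O.toScheme ⟶ U.toScheme := IsOpenImmersion.lift U.ι (O.ι ≫ U₁.ι) (by
      rintro _ ⟨y, rfl⟩
      rw [Scheme.Opens.range_ι]
      exact hO y.2)
    have hl : l ≫ U.ι = O.ι ≫ U₁.ι := IsOpenImmersion.lift_fac _ _ _
    haveI : IsOpenImmersion (l ≫ U.ι) := hl ▸ inferInstance
    haveI : IsOpenImmersion l := IsOpenImmersion.of_comp l U.ι
    have hl' : l ≫ X.homOfLE hUU₁ = O.ι := by
      rw [← cancel_mono U₁.ι, Category.assoc, Scheme.homOfLE_ι, hl]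
    rw [← hl', Category.assoc, hgU]
    infer_instance
  have hgx : Function.Bijective (g.stalkMap x₀) := by
    let O : U₁.toScheme.Opens := U₁.ι ⁻¹ᵁ U
    haveI := hopen O le_rfl
    let y : O.toScheme := ⟨x₀, hu₀⟩
    haveI : IsIso ((O.ι ≫ g).stalkMap y) := inferInstance
    haveI : IsIso (g.stalkMap (O.ι y) ≫ O.ι.stalkMap y) := Scheme.Hom.stalkMap_comp O.ι g y ▸ ‹_›
    haveI : IsIso (g.stalkMap (O.ι y)) := IsIso.of_isIso_comp_right _ (O.ι.stalkMap y)
    exact ConcreteCategory.bijective_of_isIso (g.stalkMap (O.ι y))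
  refine ⟨U₁, g, a, x₀, hbig, hg, hgx, bijective_stalk_of_basis a x₀ fun O hO => ?_⟩
  obtain ⟨_, ⟨W : X'.Opens, hW, rfl⟩, hxW, -⟩ :=
    X'.isBasis_affineOpens.exists_subset_of_mem_open (Set.mem_univ (g x₀)) isOpen_univ
  obtain ⟨_, ⟨W' : U₁.toScheme.Opens, hW', rfl⟩, hxW', hWO⟩ :=
    U₁.toScheme.isBasis_affineOpens.exists_subset_of_mem_open (a := x₀)
      (u := ((O ⊓ g ⁻¹ᵁ W ⊓ U₁.ι ⁻¹ᵁ U : U₁.toScheme.Opens) : Set U₁.toScheme)) ⟨⟨hO, hxW⟩, hu₀⟩ (Opens.isOpen _)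
  have eW : W' ≤ g ⁻¹ᵁ W := fun y hy => (hWO hy).1.2
  haveI : IsOpenImmersion (W'.ι ≫ g) := hopen W' fun y hy => (hWO hy).2
  refine ⟨W', hxW', fun y hy => (hWO hy).1.1, ha ⟨W', hW'⟩ ?_⟩
  refine OmegaUnivLib.bijective_of_compat (by rw [Category.comp_id, hg]) (OmegaUnivLib.isUniversal_dOmega sX')
    (OmegaUnivLib.isUniversal_dOmega (U₁.ι ≫ sX)) c hc (V := ⊤) (V' := ⊤) (isAffineOpen_top _) hW (isAffineOpen_top _)
    hW' le_top le_top eW le_top ?_
  letI : Algebra Γ(X', W) Γ(U₁.toScheme, W') := (g.appLE W W' eW).hom.toAlgebra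
  haveI : Algebra.Etale Γ(X', W) Γ(U₁.toScheme, W') := by
    have h1 : (⊤ : W'.toScheme.Opens) ≤ W'.ι ⁻¹ᵁ W' := by rw [Scheme.Opens.ι_preimage_self]
    have h : RingHom.Etale ((W'.ι ≫ g).appLE W ⊤ (h1.trans (W'.ι.preimage_mono eW))).hom :=
      HasRingHomProperty.appLE @Etale (W'.ι ≫ g) inferInstance ⟨W, hW⟩ ⟨⊤, haveI : IsAffine W'.toScheme := hW'; isAffineOpen_top _⟩ _
    rw [← Scheme.Hom.appLE_comp_appLE W'.ι g W W' ⊤ eW h1] at h
    haveI : IsIso (W'.ι.appLE W' ⊤ h1) := by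
      rw [Scheme.Opens.ι_appLE, Subsingleton.elim (homOfLE _) (eqToHom W'.ι_image_top)]
      infer_instance
    rwa [CommRingCat.hom_comp, RingHom.Etale.respectsIso.cancel_right_isIso] at h
  apply (config := { allowSynthFailures := true }) @KVb.isBaseChange_kaehler_etale

theorem forms_coh {n : ℕ} {X : Scheme.{u}} [X.Over (Spec (CommRingCat.of k))] [IsIntegral X]
    [IsProper (X ↘ (Spec (CommRingCat.of k)))] (hreg : ∀ x : ↥X, IsRegularLocalRing ↑(X.presheaf.stalk x))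
    (hn : topologicalKrullDim ↥X = n)
    (q : ℕ) (L : X.Modules) (hL : ExtPow.IsExtPow q (Omega.sheaf (X ↘ (Spec (CommRingCat.of k)))) L) :
    Coh.IsCoh L ∧ RefHull.IsReflexive L := by
  let sX := X ↘ Spec (CommRingCat.of k)
  haveI : IsLocallyNoetherian X := LocallyOfFiniteType.isLocallyNoetherian sX
  haveI : Smooth sX := CurveFF.smooth_of_regular hreg
  haveI : SmoothOfRelativeDimension n sX := TwistShriek.smoothOfRelativeDimension_of_smooth sX hn
  have hΩ : FlatMod.IsFinLocFree (Omega.sheaf sX) := InfLiftLib.isFinLocFree_omega sX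
  obtain ⟨h1, h2⟩ := KVb.extPow_flf hΩ hL
  refine ⟨CurveLib.isCoh_of_isFinLocFree h1, LazMuk.isReflexive_flf' (n := n.choose q) ?_⟩
  refine (KVb.isFinLocFreeOfRank_iff h1 _).2 fun x => ?_
  haveI := OmegaAffLib.isQCoh_omega sX
  obtain ⟨V, s, hxV, hs⟩ := SeesawVB.exists_frame_omega sX n x
  rw [h2 x, PullbackMod.fibreRank_eq_of_freeAt _ (SeesawVB.freeAt_of_frame hs hxV)]

theorem topPow_invertible {n : ℕ} {X : Scheme.{u}} [X.Over (Spec (CommRingCat.of k))] [IsIntegral X]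
    [IsProper (X ↘ (Spec (CommRingCat.of k)))] (hreg : ∀ x : ↥X, IsRegularLocalRing ↑(X.presheaf.stalk x))
    (hn : topologicalKrullDim ↥X = n)
    (ω : X.Modules) (hω : ExtPow.IsExtPow n (Omega.sheaf (X ↘ (Spec (CommRingCat.of k)))) ω) (m : ℕ) :
    PicF.IsInvertible (CohB1.tensorPow ω m) := by
  let sX := X ↘ Spec (CommRingCat.of k)
  haveI : Smooth sX := CurveFF.smooth_of_regular hreg
  haveI : SmoothOfRelativeDimension n sX := TwistShriek.smoothOfRelativeDimension_of_smooth sX hn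
  exact AmpleLib.isInvertible_tensorPow (SeesawVB.isInvertible_of_isExtPow hω (SeesawVB.exists_frame_omega sX n)) m

theorem exists_forms_injective {n : ℕ}
    {X X' : Scheme.{u}} [X.Over (Spec (CommRingCat.of k))] [X'.Over (Spec (CommRingCat.of k))]
    [IsIntegral X] [IsIntegral X']
    [IsProper (X ↘ (Spec (CommRingCat.of k)))] [IsProper (X' ↘ (Spec (CommRingCat.of k)))]
    (hreg : ∀ x : ↥X, IsRegularLocalRing ↑(X.presheaf.stalk x))
    (hreg' : ∀ x : ↥X', IsRegularLocalRing ↑(X'.presheaf.stalk x))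
    (hn : topologicalKrullDim ↥X = n) (hn' : topologicalKrullDim ↥X' = n)
    (U : X.Opens) (U' : X'.Opens) (hU : (U : Set ↥X).Nonempty) (e : (U : Scheme.{u}) ≅ (U' : Scheme.{u}))
    (he : e.hom ≫ U'.ι ≫ (X' ↘ (Spec (CommRingCat.of k))) = U.ι ≫ (X ↘ (Spec (CommRingCat.of k))))
    (q : ℕ) (L : X.Modules) (hL : ExtPow.IsExtPow q (Omega.sheaf (X ↘ (Spec (CommRingCat.of k)))) L)
    (L' : X'.Modules) (hL' : ExtPow.IsExtPow q (Omega.sheaf (X' ↘ (Spec (CommRingCat.of k)))) L') :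
    ∃ φ : Coh.HH X' L' 0 →ₗ[k] Coh.HH X L 0, Function.Injective φ := by
  haveI : IsLocallyNoetherian X := LocallyOfFiniteType.isLocallyNoetherian (X ↘ Spec (CommRingCat.of k))
  haveI : IsLocallyNoetherian X' := LocallyOfFiniteType.isLocallyNoetherian (X' ↘ Spec (CommRingCat.of k))
  obtain ⟨U₁, g, a, x₀, hbig, hg, hgx, hax⟩ := exists_data hreg U U' hU e he q L hL L' hL'
  obtain ⟨hc, hr⟩ := forms_coh hreg hn q L hL
  obtain ⟨hc', hr'⟩ := forms_coh hreg' hn' q L' hL'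
  exact exists_linearMap_of_birational (normal_of_regular hreg) L hc hr L' hc' hr' U₁ hbig g hg a x₀ hgx hax

theorem exists_pluri_injective {n : ℕ}
    {X X' : Scheme.{u}} [X.Over (Spec (CommRingCat.of k))] [X'.Over (Spec (CommRingCat.of k))]
    [IsIntegral X] [IsIntegral X']
    [IsProper (X ↘ (Spec (CommRingCat.of k)))] [IsProper (X' ↘ (Spec (CommRingCat.of k)))]
    (hreg : ∀ x : ↥X, IsRegularLocalRing ↑(X.presheaf.stalk x))
    (hreg' : ∀ x : ↥X', IsRegularLocalRing ↑(X'.presheaf.stalk x))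
    (hn : topologicalKrullDim ↥X = n) (hn' : topologicalKrullDim ↥X' = n)
    (U : X.Opens) (U' : X'.Opens) (hU : (U : Set ↥X).Nonempty) (e : (U : Scheme.{u}) ≅ (U' : Scheme.{u}))
    (he : e.hom ≫ U'.ι ≫ (X' ↘ (Spec (CommRingCat.of k))) = U.ι ≫ (X ↘ (Spec (CommRingCat.of k))))
    (ω : X.Modules) (hω : ExtPow.IsExtPow n (Omega.sheaf (X ↘ (Spec (CommRingCat.of k)))) ω)
    (ω' : X'.Modules) (hω' : ExtPow.IsExtPow n (Omega.sheaf (X' ↘ (Spec (CommRingCat.of k)))) ω') (m : ℕ) :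
    ∃ φ : Coh.HH X' (CohB1.tensorPow ω' m) 0 →ₗ[k] Coh.HH X (CohB1.tensorPow ω m) 0, Function.Injective φ := by
  haveI : IsLocallyNoetherian X := LocallyOfFiniteType.isLocallyNoetherian (X ↘ Spec (CommRingCat.of k))
  haveI : IsLocallyNoetherian X' := LocallyOfFiniteType.isLocallyNoetherian (X' ↘ Spec (CommRingCat.of k))
  obtain ⟨U₁, g, a, x₀, hbig, hg, hgx, hax⟩ := exists_data hreg U U' hU e he n ω hω ω' hω'
  have hi := topPow_invertible hreg hn ω hω m
  have hi' := topPow_invertible hreg' hn' ω' hω' m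
  refine exists_linearMap_of_birational (normal_of_regular hreg) _ (CurveLib.isCoh_of_isInvertible hi)
    (ASBunKS.isReflexive_invertible hi) _ (CurveLib.isCoh_of_isInvertible hi') (ASBunKS.isReflexive_invertible hi')
    U₁ hbig g hg ((AmpleLib.pullPow g ω' m).hom ≫ tpMap a m ≫ (AmpleLib.pullPow U₁.ι ω m).inv) x₀ hgx ?_
  have h1 := (isIso_iff_stalk (AmpleLib.pullPow g ω' m).hom).1 inferInstance x₀
  have h2 := bijective_tpMap a hax m
  have h3 := (isIso_iff_stalk (AmpleLib.pullPow U₁.ι ω m).inv).1 inferInstance x₀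
  refine bijective_of_eq_comp ?_ (h3.comp (h2.comp h1))
  intro z
  obtain ⟨O, hxO, s, rfl⟩ := TopCat.Presheaf.exists_germ_eq _ z
  simp only [Function.comp_apply]
  erw [stalkLin_germ, stalkLin_germ, stalkLin_germ, stalkLin_germ]
  rfl
where
  bijective_of_eq_comp {A B : Type u} {f f' : A → B} (h : ∀ z, f z = f' z) (hb : Function.Bijective f') :
      Function.Bijective f := (funext h) ▸ hb

end Groth.Agent.BirFormsLib
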