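import Groth.Agent.KVbLib.PullExt
import Groth.Agent.ProjBundleLib.Exist
import Groth.Agent.DCohLib.StalkTensor
import Groth.Agent.AmpleLib.Tensor
import Groth.Agent.PullbackMod.Hom
import Groth.Agent.PullbackMod.Stalk

/-!
# Maps of exterior and tensor powers of modules
-/

set_option autoImplicit false
set_option backward.isDefEq.respectTransparency false
set_option linter.style.haveILetI false
set_option maxHeartbeats 1000000

universe u

open CategoryTheory CategoryTheory.Limits AlgebraicGeometry TopologicalSpace Opposite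
open Groth.Agent.ExtSeq Groth.Agent.PullbackMod Groth.Agent.DCohLib

noncomputable section

namespace Groth.Agent.BirFormsLib

variable {X X' : Scheme.{u}}

/-- The map of exterior powers induced by a map of modules, with its bijectivity on good affine opens. -/
theorem exists_extMap {i : ℕ} {E E₁ L L₁ : X.Modules} (d : EP i E L) (d₁ : EP i E₁ L₁) (v : E ⟶ E₁) :
    ∃ a : L ⟶ L₁, ∀ U : X.affineOpens, Function.Bijective (v.app U.1) → Function.Bijective (a.app U.1) := by
  let f : ∀ U : X.affineOpens, Γ(L, U.1) →ₗ[Γ(X, U.1)] Γ(L₁, U.1) := fun U =>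
    (d₁.φ U).symm.toLinearMap ∘ₗ exteriorPower.map i (FlatLocus.appL v U.1) ∘ₗ (d.φ U).toLinearMap
  obtain ⟨a, ha⟩ := ProjBundleLib.exists_hom_of_affine (E := L) (N := L₁)
    (fun U => (f ⟨U.1, U.2⟩).toAddMonoidHom) (fun U hU r z => by
      let U' : X.affineOpens := ⟨U, hU⟩
      let V' : X.affineOpens := ⟨X.basicOpen r, hU.basicOpen r⟩
      have h : V'.1 ≤ U'.1 := X.basicOpen_le r
      show rs L₁ h ((d₁.φ U').symm (exteriorPower.map i (FlatLocus.appL v U'.1) (d.φ U' z))) =
        (d₁.φ V').symm (exteriorPower.map i (FlatLocus.appL v V'.1) (d.φ V' (rs _ h z)))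
      rw [d₁.rs_symm h, d.apply_rs h, resExt_map])
    fun U a z => (f ⟨U.1, U.2⟩).map_smul a z
  refine ⟨a, fun U hU => ?_⟩
  let θ : Γ(E, U.1) ≃ₗ[Γ(X, U.1)] Γ(E₁, U.1) := LinearEquiv.ofBijective (FlatLocus.appL v U.1) hU
  let α : ↥(⋀[Γ(X, U.1)]^i Γ(E, U.1)) ≃ₗ[Γ(X, U.1)] ↥(⋀[Γ(X, U.1)]^i Γ(E₁, U.1)) :=
    LinearEquiv.ofLinear (exteriorPower.map i θ.toLinearMap) (exteriorPower.map i θ.symm.toLinearMap)
      (by rw [← exteriorPower.map_comp, LinearEquiv.comp_symm, exteriorPower.map_id])
      (by rw [← exteriorPower.map_comp, LinearEquiv.symm_comp, exteriorPower.map_id])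
  have h : (a.app U.1 : Γ(L, U.1) → Γ(L₁, U.1)) = ((d.φ U).trans (α.trans (d₁.φ U).symm) : _ → _) :=
    funext fun z => ha U.1 U.2 z
  exact (congrArg Function.Bijective h).mpr (LinearEquiv.bijective _)

/-- A map bijective on a basis of neighbourhoods of a point is bijective on the stalk. -/
theorem bijective_stalk_of_basis {M N : X.Modules} (a : M ⟶ N) (x : X)
    (h : ∀ O : X.Opens, x ∈ O → ∃ W : X.Opens, x ∈ W ∧ W ≤ O ∧ Function.Bijective (a.app W)) :
    Function.Bijective (stalkLin a x) := by
  refine ⟨(injective_iff_map_eq_zero _).2 fun m hm => ?_, fun n => ?_⟩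
  · obtain ⟨O, hxO, s, rfl⟩ := TopCat.Presheaf.exists_germ_eq M.presheaf m
    rw [stalkLin_germ] at hm
    obtain ⟨O', hxO', i₁, i₂, hO'⟩ := TopCat.Presheaf.germ_eq N.presheaf x hxO hxO (a.app O s) 0
      (hm.trans (map_zero _).symm)
    obtain ⟨W, hxW, hWO', hW⟩ := h O' hxO'
    have e : M.presheaf.map (homOfLE (hWO'.trans i₁.le)).op s = 0 := hW.1 (by
      refine ((congr($(a.mapPresheaf.naturality (homOfLE (hWO'.trans i₁.le)).op) s)).trans ?_).trans (map_zero _).symm
      show N.presheaf.map _ (a.app O s) = _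
      have h2 := congrArg (N.presheaf.map (homOfLE hWO').op) hO'
      rw [map_zero, map_zero, ← ConcreteCategory.comp_apply, ← Functor.map_comp] at h2
      exact h2)
    rw [← TopCat.Presheaf.germ_res_apply M.presheaf (homOfLE (hWO'.trans i₁.le)) x hxW s, e, map_zero]
  · obtain ⟨O, hxO, s, rfl⟩ := TopCat.Presheaf.exists_germ_eq N.presheaf n
    obtain ⟨W, hxW, hWO, hW⟩ := h O hxO
    obtain ⟨t, ht⟩ := hW.2 (N.presheaf.map (homOfLE hWO).op s)
    refine ⟨M.presheaf.germ W x hxW t, ?_⟩
    rw [stalkLin_germ, ht, TopCat.Presheaf.germ_res_apply]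

/-- Tensor powers of a map. -/
def tpMap {M N : X.Modules} (a : M ⟶ N) : ∀ n, CohB1.tensorPow M n ⟶ CohB1.tensorPow N n
  | 0 => 𝟙 _
  | n + 1 => ((DCoh.tensorBi (X := X)).map (tpMap a n)).app M ≫
      ((DCoh.tensorBi (X := X)).obj (CohB1.tensorPow N n)).map a

theorem bijective_tpMap {M N : X.Modules} (a : M ⟶ N) {x : X} (h : Function.Bijective (stalkLin a x)) :
    ∀ n, Function.Bijective (stalkLin (tpMap a n) x) := by
  intro n
  induction n with
  | zero => exact ((isIso_iff_stalk (tpMap a 0)).1 (inferInstanceAs (IsIso (𝟙 _)))) x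
  | succ n ih =>
    have h1 : Function.Bijective (stalkLin (((DCoh.tensorBi (X := X)).map (tpMap a n)).app M) x) := by
      refine (Function.Bijective.of_comp_iff _ (stalkTensor x (CohB1.tensorPow M n) M).bijective).1 ?_
      refine (congrArg Function.Bijective (funext fun z => stalkTensor_natural_left x (tpMap a n) z)).mpr ?_
      exact (stalkTensor x _ M).bijective.comp
        (LinearEquiv.rTensor (M.presheaf.stalk x) (LinearEquiv.ofBijective _ ih)).bijective
    have h2 : Function.Bijective (stalkLin (((DCoh.tensorBi (X := X)).obj (CohB1.tensorPow N n)).map a) x) := by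
      refine (Function.Bijective.of_comp_iff _ (stalkTensor x (CohB1.tensorPow N n) M).bijective).1 ?_
      refine (congrArg Function.Bijective (funext fun z => stalkTensor_natural_right x a z)).mpr ?_
      exact (stalkTensor x _ N).bijective.comp
        (LinearEquiv.lTensor ((CohB1.tensorPow N n).presheaf.stalk x) (LinearEquiv.ofBijective _ h)).bijective
    have e : (stalkLin (tpMap a (n + 1)) x : _ → _) =
        stalkLin (((DCoh.tensorBi (X := X)).obj (CohB1.tensorPow N n)).map a) x ∘
          stalkLin (((DCoh.tensorBi (X := X)).map (tpMap a n)).app M) x := funext fun z => by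
      obtain ⟨O, hxO, s, rfl⟩ := TopCat.Presheaf.exists_germ_eq (CohB1.tensorPow M (n + 1)).presheaf z
      simp only [Function.comp_apply]
      erw [stalkLin_germ, stalkLin_germ, stalkLin_germ]
      rfl
    exact (congrArg Function.Bijective e).mpr (h2.comp h1)

/-- Pulling back germs is bijective where the morphism is a local isomorphism. -/
theorem bijective_pullStalk_of_bijective (g : X' ⟶ X) (M : X.Modules) [Coh.IsQCoh M] (x' : X')
    (h : Function.Bijective (g.stalkMap x')) : Function.Bijective (pullStalk g M x') := by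
  letI : Algebra (X.presheaf.stalk (g x')) (X'.presheaf.stalk x') := (g.stalkMap x').hom.toAlgebra
  letI := Module.compHom (((Scheme.Modules.pullback g).obj M).presheaf.stalk x') (g.stalkMap x').hom
  haveI : IsScalarTower (X.presheaf.stalk (g x')) (X'.presheaf.stalk x')
      (((Scheme.Modules.pullback g).obj M).presheaf.stalk x') := .of_algebraMap_smul fun _ _ => rfl
  have hb : IsBaseChange (X'.presheaf.stalk x') (pullStalkL g M x') := isBaseChange_pullStalkL g M x'
  let e : X.presheaf.stalk (g x') ≃ₗ[X.presheaf.stalk (g x')] X'.presheaf.stalk x' :=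
    LinearEquiv.ofBijective (Algebra.linearMap _ _) h
  let θ : M.presheaf.stalk (g x') ≃ₗ[X.presheaf.stalk (g x')]
      ((Scheme.Modules.pullback g).obj M).presheaf.stalk x' :=
    (TensorProduct.lid _ _).symm ≪≫ₗ TensorProduct.congr e (LinearEquiv.refl _ _) ≪≫ₗ
      hb.equiv.restrictScalars (X.presheaf.stalk (g x'))
  have hθ : (θ : _ → _) = pullStalk g M x' := funext fun m => by
    show hb.equiv (g.stalkMap x' 1 ⊗ₜ[_] m) = _
    rw [map_one, IsBaseChange.equiv_tmul, one_smul]
    rfl
  exact hθ ▸ θ.bijective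

end Groth.Agent.BirFormsLib
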