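import Groth.Agent.BirFormsLib.Maps
import Groth.Agent.NormalRefLib.Basic
import Groth.Agent.EtAssocLib.Compare
import Groth.Agent.CurveLib.SmulPow
import Groth.Agent.IntLib.Push

/-!
# Global sections pulled back along a morphism defined in codimension one
-/

set_option autoImplicit false
set_option backward.isDefEq.respectTransparency false
set_option linter.style.haveILetI false
set_option maxHeartbeats 1000000

universe u

open CategoryTheory CategoryTheory.Limits AlgebraicGeometry TopologicalSpace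
open Groth.Agent.PullbackMod Groth.Agent.NormalRefLib Groth.Agent.RefOne

noncomputable section

namespace Groth.Agent.BirFormsLib

theorem exists_linearMap_of_birational {k : Type u} [Field k]
    {X X' : Scheme.{u}} [X.Over (Spec (CommRingCat.of k))] [X'.Over (Spec (CommRingCat.of k))]
    [IsIntegral X] [IsIntegral X'] [IsLocallyNoetherian X] [IsLocallyNoetherian X']
    (hX : Pi1.IsNormalScheme X)
    (P : X.Modules) (hP : Coh.IsCoh P) (hPr : RefHull.IsReflexive P)
    (P' : X'.Modules) (hP' : Coh.IsCoh P') (hP'r : RefHull.IsReflexive P')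
    (U₁ : X.Opens) (hbig : ∀ x : X, x ∉ U₁ → (2 : WithBot ℕ∞) ≤ ringKrullDim (X.presheaf.stalk x))
    (g : U₁.toScheme ⟶ X')
    (hg : g ≫ (X' ↘ Spec (CommRingCat.of k)) = U₁.ι ≫ (X ↘ Spec (CommRingCat.of k)))
    (a : (Scheme.Modules.pullback g).obj P' ⟶ (Scheme.Modules.pullback U₁.ι).obj P)
    (x₀ : U₁.toScheme) (hgx : Function.Bijective (g.stalkMap x₀))
    (hax : Function.Bijective (stalkLin a x₀)) :
    ∃ φ : Coh.HH X' P' 0 →ₗ[k] Coh.HH X P 0, Function.Injective φ := by
  haveI := hP.1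
  haveI := hP'.1
  let α : Γ(P, ⊤) → Γ((Scheme.Modules.pullback U₁.ι).obj P, ⊤) := fun z => pullMap U₁.ι P le_top z
  have hres : Function.Bijective (P.presheaf.map (homOfLE (le_top : U₁ ≤ ⊤)).op) :=
    bijective_res hX hP hPr ⊤ U₁ le_top fun x _ hx => hbig x hx
  have hU₁ : (⊤ : U₁.toScheme.Opens) ≤ U₁.ι ⁻¹ᵁ U₁ := by rw [Scheme.Opens.ι_preimage_self]
  have hα : Function.Bijective α := by
    have h1 : Function.Bijective (pullMap U₁.ι P hU₁) :=
      EtAssocLib.pullMap_bijective U₁.ι P hU₁ (le_of_eq U₁.opensRange_ι.symm) le_top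
    have e : α = pullMap U₁.ι P hU₁ ∘ P.presheaf.map (homOfLE (le_top : U₁ ≤ ⊤)).op := funext fun z =>
      (show pullMap U₁.ι P le_top z = pullMap U₁.ι P hU₁ (P.presheaf.map (homOfLE (le_top : U₁ ≤ ⊤)).op z) by
        let N := (Scheme.Modules.pullback U₁.ι).obj P
        let η := (Scheme.Modules.pullbackPushforwardAdjunction U₁.ι).unit.app P
        have h2 : η.app U₁ (P.presheaf.map (homOfLE (le_top : U₁ ≤ ⊤)).op z) =
            N.presheaf.map (homOfLE (U₁.ι.preimage_mono le_top)).op (η.app ⊤ z) :=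
          ConcreteCategory.congr_hom (η.mapPresheaf.naturality (homOfLE (le_top : U₁ ≤ ⊤)).op) z
        show N.presheaf.map _ (η.app ⊤ z) = N.presheaf.map _ (η.app U₁ (P.presheaf.map _ z))
        rw [h2]
        exact congr($(N.presheaf.map_comp (homOfLE (U₁.ι.preimage_mono (le_top : U₁ ≤ ⊤))).op (homOfLE hU₁).op) (η.app ⊤ z)))
    rw [e]
    exact h1.comp hres
  let β : Γ(P', ⊤) → Γ((Scheme.Modules.pullback U₁.ι).obj P, ⊤) := fun σ => a.app ⊤ (pullMap g P' le_top σ)
  have hαadd : ∀ z z', α (z + z') = α z + α z' := fun z z' => map_add (pullMap U₁.ι P le_top) z z'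
  have hβadd : ∀ σ σ', β (σ + σ') = β σ + β σ' := fun σ σ' =>
    (congrArg (fun w => a.app ⊤ w) (map_add (pullMap g P' le_top) σ σ')).trans (map_add (a.app ⊤).hom _ _)
  have hinj : ∀ σ, β σ = 0 → σ = 0 := by
    intro σ hσ
    have h1 : stalkLin a x₀ (pullStalk g P' x₀ (P'.presheaf.germ ⊤ (g x₀) trivial σ)) = 0 := by
      rw [pullStalk_germ' g P' x₀ (W := ⊤) (W' := ⊤) trivial trivial le_top σ, stalkLin_germ]
      exact (congrArg _ hσ).trans (map_zero _)
    have h2 : P'.presheaf.germ ⊤ (g x₀) trivial σ = 0 :=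
      (bijective_pullStalk_of_bijective g P' x₀ hgx).1
        (((hax.1 (h1.trans (map_zero _).symm))).trans (map_zero _).symm)
    have hinj' : ∀ x, Function.Injective (toGen P' x) := fun x =>
      toGen_injective ((isReflexive_iff hP').1 hP'r x)
    refine section_ext_of_generic hinj' fun x hx => ?_
    have h3 : P'.presheaf.germ ⊤ (genericPoint X') (generic_mem hx) σ = 0 := by
      rw [← toGen_germ P' (U := ⊤) (g x₀) trivial σ, h2]
      exact map_zero _
    exact h3.trans (map_zero _).symm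
  -- scalars
  let sX := X ↘ Spec (CommRingCat.of k)
  let sX' := X' ↘ Spec (CommRingCat.of k)
  have hscal : ∀ r : k, g.appLE ⊤ ⊤ le_top (sX'.appTop ((Scheme.ΓSpecIso (CommRingCat.of k)).inv r)) =
      U₁.ι.appLE ⊤ ⊤ le_top (sX.appTop ((Scheme.ΓSpecIso (CommRingCat.of k)).inv r)) := fun r => by
    have h : (g ≫ sX').appLE ⊤ ⊤ le_top = (U₁.ι ≫ sX).appLE ⊤ ⊤ le_top := by simp only [sX, sX', hg]
    rw [← Scheme.Hom.appLE_comp_appLE g sX' ⊤ ⊤ ⊤ le_top le_top,
      ← Scheme.Hom.appLE_comp_appLE U₁.ι sX ⊤ ⊤ ⊤ le_top le_top] at h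
    have e : ∀ (Z : Scheme.{u}) (s : Z ⟶ Spec (CommRingCat.of k)), s.appLE ⊤ ⊤ le_top = s.appTop := fun Z s => by
      rw [Scheme.Hom.appTop, Scheme.Hom.app_eq_appLE]
      rfl
    rw [e, e] at h
    exact congr($h ((Scheme.ΓSpecIso (CommRingCat.of k)).inv r))
  choose φ₀ hφ₀ using fun σ => hα.2 (β σ)
  have key : ∀ c : Coh.HH X' P' 0, ∃! d : Coh.HH X P 0, α (CurveLib.secOf P d) = β (CurveLib.secOf P' c) := fun c =>
    ⟨(CurveLib.secOf P).symm (φ₀ (CurveLib.secOf P' c)), by beta_reduce; rw [AddEquiv.apply_symm_apply]; exact hφ₀ _,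
      fun d hd => (CurveLib.secOf P).eq_symm_apply.2 (hα.1 (hd.trans (hφ₀ _).symm))⟩
  choose φ hφ hφu using key
  refine ⟨{ toFun := φ
            map_add' := fun c c' => (hφu (c + c') _ ?_).symm
            map_smul' := fun r c => (hφu (r • c) _ ?_).symm }, fun c c' hcc => ?_⟩
  · beta_reduce
    rw [map_add, map_add, hαadd, hβadd, hφ, hφ]
  · beta_reduce
    rw [RingHom.id_apply, CurveLib.secOf_smul, CurveLib.secOf_smul]
    show pullMap U₁.ι P le_top _ = a.app ⊤ (pullMap g P' le_top _)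
    refine (pullMap_smul U₁.ι P le_top _ _).trans (Eq.trans ?_
      ((congrArg (fun w => a.app ⊤ w) (pullMap_smul g P' le_top _ _)).trans (Scheme.Modules.Hom.app_smul _ _ _)).symm)
    exact congrArg₂ (· • ·) (hscal r).symm (hφ c)
  · have h : β (CurveLib.secOf P' c) = β (CurveLib.secOf P' c') := by
      rw [← hφ, ← hφ]
      exact congrArg (fun d => α (CurveLib.secOf P d)) hcc
    refine (CurveLib.secOf P').injective (sub_eq_zero.1 (hinj _ ?_))
    have h' := hβadd (CurveLib.secOf P' c - CurveLib.secOf P' c') (CurveLib.secOf P' c')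
    rw [sub_add_cancel, h] at h'
    exact right_eq_add.mp h'

end Groth.Agent.BirFormsLib
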